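import Groth.Agent.Lefpen.H705.ChartPoly
import Groth.Agent.VarietyB.TwistMul
import Groth.Agent.Fdesc.LocGenPullback
import Groth.Agent.CurvesB.HZero

/-!
# The coordinates on the charts of projective space and the twisting sheaves

* `tsec l`: the section `T_l` of `O(1)`; it generates `O(1)` on `D_+(T_l)` (`isGen_tsec`).
* `mul l m m' h : O(m) ⟶ O(m')`, `m' = m + 1`: multiplication by `T_l`.
* `xx l j = T_j / T_l` on `D_+(T_l)`; `tsec_rel`; `exists_poly`: functions on `D_+(T_l)` are polynomials in these.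
-/

set_option autoImplicit false
universe u
open CategoryTheory AlgebraicGeometry Limits TopologicalSpace Opposite MvPolynomial

namespace K819.TwistCharts

open LefPen Groth.Agent.Fdesc.LocGen Groth.Agent.Lefpen.H705.ChartPoly Groth.Agent.Sga5
  Groth.Agent.VarietyB Twist

variable {k : Type u} [Field k] {N : ℕ}

/-- The section `1` of `O(0)`. -/
noncomputable def one0 : Γ(Twist.twistProjSpace N k 0, (⊤ : (CohB1.ProjSpace N k).Opens)) :=
  TwistMul.oneSect (𝒜 := CohB1.polyGrading N k) (op ⊤)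

theorem isGen_one0 : IsGen (one0 (k := k) (N := N)) := fun V _ =>
  TwistMul.toZeroSect_bijective (𝒜 := CohB1.polyGrading N k) (op V)

/-- The variable `T_l` as a homogeneous element. -/
noncomputable def var (l : Fin (N + 1)) : CohB1.polyGrading N k 1 := ⟨X l, isHomogeneous_X k l⟩

/-- Multiplication by `T_l`. -/
noncomputable def mul (l : Fin (N + 1)) (m m' : ℤ) (h : m + ((1 : ℕ) : ℤ) = m') :
    Twist.twistProjSpace N k m ⟶ Twist.twistProjSpace N k m' :=
  TwistMul.mulMap (var l) h

theorem isGen_mul (l : Fin (N + 1)) {m m' : ℤ} (h : m + ((1 : ℕ) : ℤ) = m')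
    {V : (CohB1.ProjSpace N k).Opens} (hV : V ≤ chart N k l)
    {e : Γ(Twist.twistProjSpace N k m, V)} (he : IsGen e) : IsGen ((mul l m m' h).app V e) := by
  intro W hW
  have h1 := he W hW
  have h2 : Function.Bijective ((mul (k := k) l m m' h).app W) :=
    TwistMul.mulMap_app_bijective _ _ W (hW.trans hV)
  convert h2.comp h1 using 2 with b
  simp [app_res]

/-- The section `T_l` of `O(1)`. -/
noncomputable def tsec (l : Fin (N + 1)) :
    Γ(Twist.twistProjSpace N k 1, (⊤ : (CohB1.ProjSpace N k).Opens)) :=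
  (mul l 0 1 (by norm_num)).app ⊤ one0

theorem isGen_tsec (l : Fin (N + 1)) :
    IsGen (res (Twist.twistProjSpace N k 1) (le_top : chart N k l ≤ ⊤) (tsec l)) := by
  have h1 := isGen_mul (k := k) l (m := 0) (m' := 1) (by norm_num) (le_refl (chart N k l))
    ((isGen_one0 (k := k) (N := N)).res (le_top : chart N k l ≤ ⊤))
  rw [app_res] at h1
  exact h1

theorem mul_tsec_comm (l j : Fin (N + 1)) :
    (mul (k := k) l 1 2 (by norm_num)).app ⊤ (tsec j) = (mul j 1 2 (by norm_num)).app ⊤ (tsec l) := by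
  have h := TwistMul.mulMap_comm (𝒜 := CohB1.polyGrading N k) (var j) (var l)
    (m := 0) (m₁ := 1) (m₂ := 1) (m' := 2) (by norm_num) (by norm_num) (by norm_num) (by norm_num)
  exact congr(($(h).app ⊤) one0)

/-- `T_j / T_l` on the chart `D_+(T_l)`. -/
noncomputable def xx (l j : Fin (N + 1)) : Γ(CohB1.ProjSpace N k, chart N k l) :=
  polyToChart l (ProjChart.dehom N k l (X j))

/-- The value of `T_j / T_l` at a point. -/
theorem xx_val (l j : Fin (N + 1)) (y : ProjectiveSpectrum (CohB1.polyGrading N k))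
    (hy : y ∈ chart N k l) :
    (((xx (k := k) l j).1 ⟨y, hy⟩).val : Loc (CohB1.polyGrading N k) y) *
      algebraMap _ _ (X l : MvPolynomial (Fin (N + 1)) k) =
        algebraMap _ _ (X j : MvPolynomial (Fin (N + 1)) k) := by
  have hle : Submonoid.powers (X l : MvPolynomial (Fin (N + 1)) k) ≤
      y.asHomogeneousIdeal.toIdeal.primeCompl.comap (RingHom.id _) :=
    (Submonoid.powers_le (P := y.asHomogeneousIdeal.toIdeal.primeCompl)).mpr hy
  let μ : Localization.Away (X l : MvPolynomial (Fin (N + 1)) k) →+*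
      Localization.AtPrime y.asHomogeneousIdeal.toIdeal :=
    IsLocalization.map (M := .powers (X l : MvPolynomial (Fin (N + 1)) k))
      (T := y.asHomogeneousIdeal.toIdeal.primeCompl)
        (Localization.AtPrime y.asHomogeneousIdeal.toIdeal) (RingHom.id _) hle
  have h1 : (((xx (k := k) l j).1 ⟨y, hy⟩).val : Loc (CohB1.polyGrading N k) y) =
      μ (ProjChart.ofPoly N k l (ProjChart.dehom N k l (X j))).val :=
    ProjectiveSpectrum.Proj.awayToSection_apply (CohB1.polyGrading N k) (X l) _ ⟨y, hy⟩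
  have hμ : ∀ p : MvPolynomial (Fin (N + 1)) k, μ (ProjChart.aM N k l p) = algebraMap _ _ p := fun p =>
    IsLocalization.map_eq _ _
  have h2 := congrArg μ (ProjChart.val_ofPoly_dehom N k l 1 (X j) (isHomogeneous_X k j))
  rw [map_mul, pow_one, hμ, hμ] at h2
  exact (congrArg (· * _) h1).trans h2

theorem tsec_rel (l j : Fin (N + 1)) :
    res (Twist.twistProjSpace N k 1) (le_top : chart N k l ≤ ⊤) (tsec (k := k) j) =
      xx (k := k) l j • res (Twist.twistProjSpace N k 1) (le_top : chart N k l ≤ ⊤)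
        (tsec (k := k) l) := by
  refine Subtype.ext (funext fun y => Subtype.ext ?_)
  have h2 := xx_val (k := k) l j y.1 y.2
  refine Eq.trans ?_ (coe_smul_val (𝒜 := CohB1.polyGrading N k) 1 y.1 ((xx (k := k) l j).1 y)
    ((tsec (k := k) l).1 ⟨y.1, trivial⟩)).symm
  change algebraMap _ _ (X j : MvPolynomial (Fin (N + 1)) k) * 1 =
    ((xx (k := k) l j).1 y).val * (algebraMap _ _ (X l : MvPolynomial (Fin (N + 1)) k) * 1)
  rw [mul_one, mul_one, h2]

theorem mem_of_isUnit (l j : Fin (N + 1)) (y : ProjectiveSpectrum (CohB1.polyGrading N k))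
    (hy : y ∈ chart N k l) (hu2 : IsUnit ((xx (k := k) l j).1 ⟨y, hy⟩)) : y ∈ chart N k j := by
  have h4 := xx_val (k := k) l j y hy
  have hu3 : IsUnit (((xx (k := k) l j).1 ⟨y, hy⟩).val : Loc (CohB1.polyGrading N k) y) :=
    hu2.map (algebraMap (A0 (CohB1.polyGrading N k) y) (Loc (CohB1.polyGrading N k) y))
  have hu4 : IsUnit (algebraMap (MvPolynomial (Fin (N + 1)) k) (Loc (CohB1.polyGrading N k) y) (X l)) :=
    IsLocalization.map_units (M := y.asHomogeneousIdeal.toIdeal.primeCompl) _ ⟨X l, hy⟩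
  have hu5 : IsUnit (algebraMap (MvPolynomial (Fin (N + 1)) k) (Loc (CohB1.polyGrading N k) y) (X j)) := by
    rw [← h4]
    exact hu3.mul hu4
  exact (IsLocalization.AtPrime.isUnit_to_map_iff (Loc (CohB1.polyGrading N k) y)
    y.asHomogeneousIdeal.toIdeal _).1 hu5

/-- The locus where `T_j / T_l` is invertible. -/
theorem basicOpen_xx_le (l j : Fin (N + 1)) :
    (CohB1.ProjSpace N k).basicOpen (xx l j) ≤ chart N k j := by
  intro y hy
  have hy1 : y ∈ chart N k l := Scheme.basicOpen_le _ _ hy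
  have hu := (Scheme.mem_basicOpen (X := CohB1.ProjSpace N k) (xx (k := k) l j) y hy1).1 hy
  -- the value at `y` is a unit
  have hu2 : IsUnit ((xx (k := k) l j).1 ⟨y, hy1⟩) := by
    have h3 : (stalkToFiberRingHom (CohB1.polyGrading N k) y).hom
        ((CohB1.ProjSpace N k).presheaf.germ (chart N k l) y hy1 (xx l j)) =
          (xx (k := k) l j).1 ⟨y, hy1⟩ :=
      stalkToFiberRingHom_germ _ _ _ _ _
    rw [← h3]
    exact hu.map _
  exact mem_of_isUnit l j y hy1 hu2

/-- Functions on the chart are polynomials in the coordinates. -/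
theorem exists_poly (l : Fin (N + 1)) (β : Γ(CohB1.ProjSpace N k, chart N k l)) :
    ∃ g : MvPolynomial (Fin (N + 1)) k, β = g.eval₂ ((polyToChart l).comp C) (xx l) := by
  obtain ⟨p, rfl⟩ := (polyToChart_bijective l).2 β
  refine ⟨rename l.succAbove p, ?_⟩
  rw [eval₂_rename]
  have h : (xx (k := k) l) ∘ l.succAbove = (polyToChart l) ∘ X := by
    funext i
    change polyToChart l (ProjChart.dehom N k l (X (l.succAbove i))) = _
    rw [ProjChart.dehom_X]
    rfl
  rw [h, ← eval₂_comp_left, eval₂_eta]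

theorem appLE_chart_injective (j : Fin (N + 1)) : Function.Injective
    ((ProjSmooth.chart N k j).appLE (LefPen.chart N k j) ⊤ (top_le_preimage j)).hom := by
  intro x y hxy
  obtain ⟨p, rfl⟩ := (polyToChart_bijective j).2 x
  obtain ⟨q, rfl⟩ := (polyToChart_bijective j).2 y
  rw [chart_appLE_polyToChart, chart_appLE_polyToChart] at hxy
  have h := (ConcreteCategory.bijective_of_isIso
    (Scheme.ΓSpecIso (CommRingCat.of (MvPolynomial (Fin N) k))).inv).1 hxy
  rw [h]

theorem appLE_top_eq {X Z : Scheme.{u}} (p q : X ⟶ Z) (h : p = q) (e : (⊤ : X.Opens) ≤ p ⁻¹ᵁ ⊤) :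
    p.appLE ⊤ ⊤ e = q.appTop := by
  subst h
  exact (Scheme.Hom.app_eq_appLE p).symm

theorem toSpec_appLE (j : Fin (N + 1)) (c : k) :
    ((CohB1.ProjSpace.toSpec N k).appLE ⊤ (chart N k j) le_top).hom
      ((Scheme.ΓSpecIso (CommRingCat.of k)).inv.hom c) = polyToChart j (MvPolynomial.C c) := by
  apply appLE_chart_injective j
  rw [chart_appLE_polyToChart]
  have h1 := Scheme.Hom.appLE_comp_appLE (ProjSmooth.chart N k j) (CohB1.ProjSpace.toSpec N k)
    ⊤ (chart N k j) ⊤ le_top (top_le_preimage j)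
  have h2 := congr($(h1).hom ((Scheme.ΓSpecIso (CommRingCat.of k)).inv.hom c))
  refine h2.trans ?_
  rw [appLE_top_eq _ _ (ProjSmooth.chart_toSpec N k j)]
  exact congr($(Scheme.ΓSpecIso_inv_naturality (CommRingCat.ofHom (MvPolynomial.C : k →+* MvPolynomial (Fin N) k))).hom c).symm

theorem ores_gl (j : Fin (N + 1)) (c : k) :
    ores (le_top : chart N k j ≤ ⊤)
      (Groth.Agent.CurvesB.HZero.gl k (CohB1.ProjSpace N k) c) = polyToChart j (C c) := by
  rw [← toSpec_appLE]
  rfl

end K819.TwistCharts
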