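import Mathlib.RingTheory.Localization.Away.Basic
import Mathlib.RingTheory.Ideal.Quotient.Basic
import Mathlib.Algebra.MvPolynomial.Eval
import Mathlib.LinearAlgebra.Dual.Lemmas

/-!
# Linear forms of codimension one in a finite algebra

Algebraic core of the statement: if the linear forms have codimension at most one in the sections of `O(1)` on a
zero-dimensional subscheme of projective space, then the quadratic forms give all sections of `O(2)`.
-/

set_option autoImplicit false
universe u v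

namespace K819.TwistCore

open MvPolynomial

section Functional

variable {k A : Type u} [Field k] [CommRing A] [Algebra k A] {ι : Type v}

/-- The largest ideal contained in the kernel of a functional. -/
def radIdeal (φ : A →ₗ[k] k) : Ideal A where
  carrier := {x | ∀ a, φ (a * x) = 0}
  zero_mem' a := by rw [mul_zero, map_zero]
  add_mem' {x y} hx hy a := by rw [mul_add, map_add, hx a, hy a, add_zero]
  smul_mem' c x hx a := by rw [smul_eq_mul, ← mul_assoc]; exact hx _

theorem mem_radIdeal (φ : A →ₗ[k] k) (x : A) : x ∈ radIdeal φ ↔ ∀ a, φ (a * x) = 0 := Iff.rfl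

theorem functional_eq_zero (τ : ι → A) (hτ : Ideal.span (Set.range τ) = ⊤) (l : ι)
    (hloc : ∃ (B : Type u) (_ : CommRing B) (_ : Algebra A B) (_ : IsLocalization.Away (τ l) B)
      (ξ : ι → B), (∀ j, ξ j * algebraMap A B (τ l) = algebraMap A B (τ j)) ∧
        ∀ a : A, ∃ g : MvPolynomial ι k,
          algebraMap A B a = g.eval₂ ((algebraMap A B).comp (algebraMap k A)) ξ)
    (φ : A →ₗ[k] k) (γ : ι → k) (h1 : ∀ a j, φ (a * τ j) = γ j * φ (a * τ l))
    (h2 : φ (τ l) = 0) : φ = 0 := by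
  obtain ⟨B, _, _, _, ξ, hξ, hg⟩ := hloc
  obtain ⟨R, hR⟩ : ∃ R : Ideal A, ∀ x, x ∈ R ↔ ∀ a, φ (a * x) = 0 := ⟨radIdeal φ, fun _ => Iff.rfl⟩
  obtain ⟨q, hq0⟩ : ∃ q : A →+* A ⧸ R, ∀ x y, q x = q y ↔ x - y ∈ R :=
    ⟨Ideal.Quotient.mk R, fun x y => Ideal.Quotient.eq⟩
  have hq : ∀ j, q (τ j) = q (algebraMap k A (γ j)) * q (τ l) := by
    intro j
    rw [← map_mul]
    refine (hq0 _ _).2 ((hR _).2 fun a => ?_)
    have e : a * (τ j - algebraMap k A (γ j) * τ l) = a * τ j - γ j • (a * τ l) := by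
      rw [Algebra.smul_def]; ring
    rw [e, map_sub, map_smul, h1, smul_eq_mul, sub_self]
  have hu : IsUnit (q (τ l)) := by
    have h5 : Ideal.map q (Ideal.span (Set.range τ)) ≤ Ideal.span {q (τ l)} := by
      rw [Ideal.map_span, Ideal.span_le]
      rintro _ ⟨_, ⟨j, rfl⟩, rfl⟩
      exact Ideal.mem_span_singleton'.2 ⟨q (algebraMap k A (γ j)), (hq j).symm⟩
    rw [hτ, Ideal.map_top] at h5
    exact Ideal.span_singleton_eq_top.1 (top_le_iff.1 h5)
  let θ : B →+* A ⧸ R := IsLocalization.Away.lift (τ l) hu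
  have hθ : ∀ a, θ (algebraMap A B a) = q a := fun a => IsLocalization.Away.lift_eq (τ l) hu a
  have hθξ : ∀ j, θ (ξ j) = q (algebraMap k A (γ j)) := by
    intro j
    apply hu.mul_right_cancel
    rw [← hq, ← hθ, ← map_mul, hξ, hθ]
  have hconst : ∀ a, ∃ c : k, q a = q (algebraMap k A c) := by
    intro a
    obtain ⟨g, hg'⟩ := hg a
    refine ⟨g.eval₂ (RingHom.id k) γ, ?_⟩
    rw [← hθ, hg', hom_eval₂]
    have e := hom_eval₂ g (RingHom.id k) (q.comp (algebraMap k A)) γ
    refine Eq.trans ?_ e.symm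
    congr 1
    · ext c
      change θ (algebraMap A B (algebraMap k A c)) = q (algebraMap k A c)
      exact hθ _
    · funext j
      exact hθξ j
  have h3 : ∀ a, φ (a * τ l) = 0 := by
    intro a
    obtain ⟨c, hc⟩ := hconst a
    have h4 := (hR _).1 ((hq0 _ _).1 hc) (τ l)
    have e : τ l * (a - algebraMap k A c) = a * τ l - c • τ l := by
      rw [Algebra.smul_def]; ring
    rw [e, map_sub, map_smul, h2, smul_zero, sub_zero] at h4
    exact h4
  have h5 : ∀ x ∈ Ideal.span (Set.range τ), ∀ a, φ (a * x) = 0 := by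
    intro x hx
    induction hx using Submodule.span_induction with
    | mem x hx => obtain ⟨j, rfl⟩ := hx; intro a; rw [h1, h3, mul_zero]
    | zero => intro a; rw [mul_zero, map_zero]
    | add x y _ _ hx hy => intro a; rw [mul_add, map_add, hx, hy, add_zero]
    | smul c x _ hx => intro a; rw [smul_eq_mul, ← mul_assoc]; exact hx _
  ext b
  have h6 := h5 1 (by rw [hτ]; trivial) b
  rw [mul_one] at h6
  rw [h6, LinearMap.zero_apply]

end Functional

theorem main_alg {k A : Type u} [Field k] [CommRing A] [Algebra k A] {ι : Type v}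
    {L₁ L₂ : Type*} [AddCommGroup L₁] [AddCommGroup L₂] [Module A L₁] [Module A L₂]
    [Module k L₁] [Module k L₂] [IsScalarTower k A L₁] [IsScalarTower k A L₂]
    (μ : ι → L₁ →ₗ[A] L₂) (e : L₁) (he : Function.Surjective (fun a : A => a • e)) (τ : ι → A)
    (hτ : Ideal.span (Set.range τ) = ⊤)
    (hloc : ∀ l, ∃ (B : Type u) (_ : CommRing B) (_ : Algebra A B) (_ : IsLocalization.Away (τ l) B)
      (ξ : ι → B), (∀ j, ξ j * algebraMap A B (τ l) = algebraMap A B (τ j)) ∧
        ∀ a : A, ∃ g : MvPolynomial ι k,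
          algebraMap A B a = g.eval₂ ((algebraMap A B).comp (algebraMap k A)) ξ)
    (sym : ∀ i j, μ i (τ j • e) = μ j (τ i • e))
    (V : Set L₁) (W : Submodule k L₂) (hμ : ∀ i, ∀ s ∈ V, μ i s ∈ W) (hT : ∀ j, τ j • e ∈ V)
    (v : L₁) (hv : ∀ t, ∃ s ∈ V, ∃ c : k, t = s + c • v)
    (hsurj : ⨆ i, LinearMap.range (μ i) = ⊤) : W = ⊤ := by
  by_contra hW
  obtain ⟨lam, hlam, hWlam⟩ := Submodule.exists_le_ker_of_lt_top W (lt_top_iff_ne_top.2 hW)
  have h0 : ∀ i, ∀ s ∈ V, lam (μ i s) = 0 := fun i s hs => hWlam (hμ i s hs)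
  have hmul : ∀ t, ∃ c : k, ∀ i, lam (μ i t) = c * lam (μ i v) := by
    intro t
    obtain ⟨s, hs, c, rfl⟩ := hv t
    refine ⟨c, fun i => ?_⟩
    rw [map_add, map_add, h0 i s hs, zero_add]
    have e1 : μ i (c • v) = c • μ i v := by
      rw [← IsScalarTower.algebraMap_smul A c v, map_smul, IsScalarTower.algebraMap_smul]
    rw [e1, map_smul, smul_eq_mul]
  have hall : ∀ i, lam (μ i v) = 0 := by
    intro l
    by_contra hl
    let ψ : A →ₗ[k] k := lam ∘ₗ ((μ l).restrictScalars k) ∘ₗ
      ((LinearMap.toSpanSingleton A L₁ e).restrictScalars k)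
    have hψ : ∀ a, ψ a = lam (μ l (a • e)) := fun a => rfl
    have hprop : ∀ j t, lam (μ j t) = (lam (μ j v) / lam (μ l v)) * lam (μ l t) := by
      intro j t
      obtain ⟨c, hc⟩ := hmul t
      rw [hc j, hc l]
      field_simp
    have hz := functional_eq_zero τ hτ l (hloc l) ψ (fun j => lam (μ j v) / lam (μ l v)) (by
      intro a j
      rw [hψ, hψ, mul_smul, map_smul, sym l j, ← map_smul, smul_smul, ← hprop]) (by
      rw [hψ]
      exact h0 _ _ (hT l))
    obtain ⟨a, ha⟩ := he v
    have : ψ a = 0 := by rw [hz, LinearMap.zero_apply]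
    rw [hψ] at this
    exact hl (by rw [← ha]; exact this)
  have hall' : ∀ i t, lam (μ i t) = 0 := by
    intro i t
    obtain ⟨c, hc⟩ := hmul t
    rw [hc, hall, mul_zero]
  apply hlam
  ext x
  have hx : x ∈ ⨆ i, LinearMap.range (μ i) := by rw [hsurj]; trivial
  rw [LinearMap.zero_apply]
  induction hx using Submodule.iSup_induction' with
  | mem i x hx => obtain ⟨t, rfl⟩ := hx; exact hall' i t
  | zero => exact map_zero _
  | add x y _ _ hx hy => rw [map_add, hx, hy, add_zero]

end K819.TwistCore
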