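import Groth.Agent.ProjSp.K819.Charts
import Groth.Agent.ProjSp.K819.Core
import Mathlib.AlgebraicGeometry.Artinian
import Mathlib.AlgebraicGeometry.IdealSheaf.Subscheme
import Mathlib.AlgebraicGeometry.Limits

/-!
# Restriction of the twisting sheaves to a finite discrete subscheme of projective space

`surjective_two`: if the sections of `O(1)` have codimension at most one in the sections of `O(1)|Z` then
the restriction `Γ(P, O(2)) → Γ(Z, O(2)|Z)` is surjective, `Z` finite and discrete.
-/

set_option autoImplicit false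
universe u
open CategoryTheory AlgebraicGeometry Limits TopologicalSpace Opposite MvPolynomial

namespace K819.TwistDiscrete

open LefPen Groth.Agent.Fdesc.LocGen Groth.Agent.Lefpen.H705.ChartPoly
  K819.TwistCharts

section Gen

variable {X : Scheme.{u}} [DiscreteTopology X] (M : X.Modules)

/-- The open `{x}`. -/
def sing (x : X) : X.Opens := ⟨{x}, isOpen_discrete _⟩

theorem mem_sing {x y : X} : y ∈ sing x ↔ y = x := Iff.rfl

theorem sing_le {x : X} {U : X.Opens} (h : x ∈ U) : sing x ≤ U := by
  intro y hy
  rw [mem_sing] at hy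
  rw [hy]
  exact h

theorem top_le_iSup_sing : (⊤ : X.Opens) ≤ ⨆ x : X, sing x := fun x _ =>
  Opens.mem_iSup.2 ⟨x, rfl⟩

theorem subsingleton_of_isEmpty {V : X.Opens} (h : ∀ x, x ∉ V) (a b : Γ(M, V)) : a = b :=
  res_ext M (ι := Empty) (V := V) (fun i => i.elim) (fun i => i.elim)
    (fun x hx => absurd hx (h x)) (fun i => i.elim)

/-- Sections over a discrete scheme are families of sections over its points. -/
theorem exists_sec (s : ∀ x : X, Γ(M, sing x)) :
    ∃ t : Γ(M, ⊤), ∀ x, res M (le_top : sing x ≤ ⊤) t = s x := by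
  classical
  refine res_glue M (fun x => sing x) (fun x => le_top) top_le_iSup_sing s fun x y => ?_
  by_cases h : x = y
  · subst h
    rfl
  · refine subsingleton_of_isEmpty M (fun z hz => h ?_) _ _
    exact (mem_sing.1 hz.1).symm.trans (mem_sing.1 hz.2)

theorem sec_ext {s t : Γ(M, ⊤)} (h : ∀ x, res M (le_top : sing x ≤ ⊤) s = res M le_top t) : s = t :=
  res_ext M (fun x => sing x) (fun x => le_top) top_le_iSup_sing h

theorem exists_gen (h : ∀ x : X, ∃ (U : X.Opens) (e : Γ(M, U)), x ∈ U ∧ IsGen e) :
    ∃ e : Γ(M, ⊤), IsGen e := by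
  choose U e hx he using h
  obtain ⟨t, ht⟩ := exists_sec M (fun x => res M (sing_le (hx x)) (e x))
  refine ⟨t, IsGen.of_cover (fun x => sing x) (fun x => le_top) top_le_iSup_sing fun x => ?_⟩
  rw [ht]
  exact (he x).res _

end Gen

end K819.TwistDiscrete
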