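import Groth.Agent.ProjSp.K819.Discrete
import Groth.Agent.Fga.TwistGr

/-!
# The sections `T_l` restricted to a finite discrete subscheme of projective space
-/

set_option autoImplicit false
universe u
open CategoryTheory AlgebraicGeometry Limits TopologicalSpace Opposite MvPolynomial

namespace K819.TwistRestr

open LefPen Groth.Agent.Fdesc.LocGen Groth.Agent.Lefpen.H705.ChartPoly Groth.Agent.Lefpen.H705.HypIdeal
  K819.TwistCharts K819.TwistDiscrete

variable {k : Type u} [Field k] {N : ℕ} (Z : (CohB1.ProjSpace N k).IdealSheafData)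

/-- `O(m)|Z`. -/
noncomputable abbrev MM (m : ℤ) : Z.subscheme.Modules :=
  (Scheme.Modules.pullback Z.subschemeι).obj (Twist.twistProjSpace N k m)

/-- The chart `Z ∩ D_+(T_l)`. -/
noncomputable abbrev UU (l : Fin (N + 1)) : Z.subscheme.Opens := Z.subschemeι ⁻¹ᵁ chart N k l

/-- `T_l|Z` -/
noncomputable def TT (l : Fin (N + 1)) : Γ(MM Z 1, ⊤) := pullTop Z.subschemeι (tsec l)

theorem res_TT (l j : Fin (N + 1)) : res (MM Z 1) (le_top : UU Z l ≤ ⊤) (TT Z j) =
    pullSec Z.subschemeι (res (Twist.twistProjSpace N k 1) (le_top : chart N k l ≤ ⊤) (tsec j)) :=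
  res_pullSec Z.subschemeι (le_top : chart N k l ≤ ⊤) (tsec j)

theorem isGen_TT (l : Fin (N + 1)) : IsGen (res (MM Z 1) (le_top : UU Z l ≤ ⊤) (TT Z l)) := by
  rw [res_TT]
  exact (isGen_tsec l).pullSec Z.subschemeι

theorem TT_rel (l j : Fin (N + 1)) : res (MM Z 1) (le_top : UU Z l ≤ ⊤) (TT Z j) =
    (Z.subschemeι.app (chart N k l) (xx l j) : Γ(Z.subscheme, UU Z l)) •
      res (MM Z 1) (le_top : UU Z l ≤ ⊤) (TT Z l) := by
  rw [res_TT, res_TT, tsec_rel, pullSec_smul]

theorem exists_mem_UU (x : Z.subscheme) : ∃ l, x ∈ UU Z l :=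
  Groth.Agent.Fga.TwistGr.exists_mem_dplus (Z.subschemeι x)

theorem exists_gen_one [DiscreteTopology Z.subscheme] : ∃ e : Γ(MM Z 1, ⊤), IsGen e := by
  refine exists_gen _ fun x => ?_
  obtain ⟨l, hl⟩ := exists_mem_UU Z x
  exact ⟨UU Z l, _, hl, isGen_TT Z l⟩

theorem ores_eq_map {X : Scheme.{u}} {U V : X.Opens} (h : V ≤ U) (f : Γ(X, U)) :
    ores h f = X.presheaf.map (homOfLE h).op f := rfl

theorem le_basicOpen_iff {X : Scheme.{u}} {U V : X.Opens} (h : V ≤ U) (f : Γ(X, U)) :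
    V ≤ X.basicOpen f ↔ IsUnit (ores h f) := by
  constructor
  · intro hV
    have h1 : IsUnit (ores (X.basicOpen_le f) f) := RingedSpace.isUnit_res_basicOpen _ f
    have h2 := h1.map (ores hV)
    rwa [ores_ores] at h2
  · intro hu
    have h1 := X.basicOpen_of_isUnit hu
    rw [ores_eq_map, Scheme.basicOpen_res] at h1
    rw [← h1]
    exact inf_le_right

section Coord

variable {Z} {e : Γ(MM Z 1, ⊤)} (he : IsGen e) {τ : Fin (N + 1) → Γ(Z.subscheme, ⊤)}
  (hτ : ∀ l, TT Z l = τ l • e)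

include he hτ

theorem UU_le (l : Fin (N + 1)) : UU Z l ≤ Z.subscheme.basicOpen (τ l) := by
  rw [le_basicOpen_iff (le_top : UU Z l ≤ ⊤)]
  have h1 := isGen_TT Z l
  rw [hτ, res_smul] at h1
  exact (he.res _).isUnit_of_smul h1

theorem basicOpen_le_UU [DiscreteTopology Z.subscheme] (l : Fin (N + 1)) :
    Z.subscheme.basicOpen (τ l) ≤ UU Z l := by
  intro x hx
  obtain ⟨j, hj⟩ := exists_mem_UU Z x
  have h1 : IsUnit (ores (le_top : sing x ≤ ⊤) (τ l)) :=
    (le_basicOpen_iff le_top (τ l)).1 (sing_le hx)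
  have h2 : IsGen (res (MM Z 1) (le_top : sing x ≤ ⊤) (TT Z l)) := by
    rw [hτ, res_smul]
    exact (he.res _).unit_smul h1
  have h3 := congrArg (res (MM Z 1) (sing_le hj)) (TT_rel Z j l)
  rw [res_smul, res_res, res_res] at h3
  rw [h3] at h2
  have h4 : IsGen (res (MM Z 1) (le_top : sing x ≤ ⊤) (TT Z j)) := by
    have := (isGen_TT Z j).res (sing_le hj)
    rwa [res_res] at this
  have h5 := h4.isUnit_of_smul h2
  have h6 := (le_basicOpen_iff (sing_le hj) _).2 h5
  have h7 : x ∈ Z.subscheme.basicOpen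
      (Z.subschemeι.app (chart N k j) (xx j l) : Γ(Z.subscheme, UU Z j)) := h6 rfl
  rw [← Scheme.preimage_basicOpen] at h7
  exact basicOpen_xx_le j l h7

theorem span_eq_top [DiscreteTopology Z.subscheme] [Finite Z.subscheme] :
    Ideal.span (Set.range τ) = ⊤ := by
  rw [← (isAffineOpen_top Z.subscheme).self_le_iSup_basicOpen_iff]
  intro x _
  obtain ⟨l, hl⟩ := exists_mem_UU Z x
  exact Opens.mem_iSup.2 ⟨⟨τ l, ⟨l, rfl⟩⟩, UU_le he hτ l hl⟩

/-- The structure map `k → Γ(Z, O_Z)`. -/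
noncomputable def κ (Z : (CohB1.ProjSpace N k).IdealSheafData) : k →+* Γ(Z.subscheme, ⊤) :=
  (Z.subschemeι.appTop).hom.comp (Groth.Agent.CurvesB.HZero.gl k (CohB1.ProjSpace N k))

omit he hτ in
theorem ores_κ (l : Fin (N + 1)) (c : k) : ores (le_top : UU Z l ≤ ⊤) (κ Z c) =
    (Z.subschemeι.app (chart N k l)).hom (polyToChart l (C c)) := by
  rw [← ores_gl]
  have := Z.subschemeι.naturality (homOfLE (le_top : chart N k l ≤ ⊤)).op
  exact congr($(this).hom (Groth.Agent.CurvesB.HZero.gl k (CohB1.ProjSpace N k) c)).symm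

theorem exists_loc [DiscreteTopology Z.subscheme] [Finite Z.subscheme] (l : Fin (N + 1)) :
    ∃ (B : Type u) (_ : CommRing B) (_ : Algebra Γ(Z.subscheme, ⊤) B)
      (_ : IsLocalization.Away (τ l) B) (ξ : Fin (N + 1) → B),
      (∀ j, ξ j * algebraMap _ B (τ l) = algebraMap _ B (τ j)) ∧
        ∀ a : Γ(Z.subscheme, ⊤), ∃ g : MvPolynomial (Fin (N + 1)) k,
          algebraMap _ B a = g.eval₂ ((algebraMap _ B).comp (κ Z)) ξ := by
  have hle := basicOpen_le_UU he hτ l
  have hloc := (isAffineOpen_top Z.subscheme).isLocalization_basicOpen (τ l)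
  refine ⟨Γ(Z.subscheme, Z.subscheme.basicOpen (τ l)), inferInstance, _, hloc,
    fun j => ores hle (Z.subschemeι.app (chart N k l) (xx l j)), fun j => ?_, fun a => ?_⟩
  · change ores hle _ * ores le_top (τ l) = ores le_top (τ j)
    refine (he.res (le_top : Z.subscheme.basicOpen (τ l) ≤ ⊤)).ext ?_
    rw [mul_smul, ← res_smul, ← res_smul, ← hτ, ← hτ]
    have h3 := congrArg (res (MM Z 1) hle) (TT_rel Z l j)
    rw [res_smul, res_res, res_res] at h3
    exact h3.symm
  · obtain ⟨β, hβ⟩ := Z.subschemeι_app_surjective ⟨chart N k l, isAffineOpen_chart l⟩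
      (ores (le_top : UU Z l ≤ ⊤) a)
    obtain ⟨g, rfl⟩ := exists_poly l β
    refine ⟨g, ?_⟩
    have h1 : ores (le_top : Z.subscheme.basicOpen (τ l) ≤ ⊤) a =
        ((ores hle).comp (Z.subschemeι.app (chart N k l)).hom)
          (g.eval₂ ((polyToChart l).comp C) (xx l)) := by
      rw [RingHom.comp_apply]
      refine Eq.trans ?_ (congrArg (ores hle) hβ).symm
      rw [ores_ores]
    refine h1.trans ?_
    rw [hom_eval₂]
    congr 1
    ext c
    change ores hle ((Z.subschemeι.app (chart N k l)).hom (polyToChart l (C c))) =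
      ores le_top (κ Z c)
    rw [← ores_κ, ores_ores]

end Coord

end K819.TwistRestr
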