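import Groth.Agent.ProjSp.K819.Restr

/-!
# Surjectivity of the restriction of `O(2)` to a finite discrete subscheme
-/

set_option autoImplicit false
universe u
open CategoryTheory AlgebraicGeometry Limits TopologicalSpace Opposite MvPolynomial

namespace K819.TwistSurj

open LefPen Groth.Agent.Fdesc.LocGen Groth.Agent.Lefpen.H705.ChartPoly
  K819.TwistCharts K819.TwistDiscrete K819.TwistRestr

theorem exists_fun {X : Scheme.{u}} [DiscreteTopology X] (s : ∀ x : X, Γ(X, sing x)) :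
    ∃ t : Γ(X, ⊤), ∀ x, ores (le_top : sing x ≤ ⊤) t = s x := by
  classical
  refine ores_glue (V := ⊤) (fun x => sing x) (fun x => le_top) top_le_iSup_sing s fun x y => ?_
  by_cases h : x = y
  · subst h
    rfl
  · refine ores_ext (ι := Empty) (fun i => i.elim) (fun i => i.elim) (fun z hz => ?_)
      (fun i => i.elim)
    exact absurd ((mem_sing.1 hz.1).symm.trans (mem_sing.1 hz.2)) h

variable {k : Type u} [Field k] {N : ℕ} (Z : (CohB1.ProjSpace N k).IdealSheafData)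

/-- Multiplication by `T_l` on global sections: `Γ(Z, O(1)) → Γ(Z, O(2))`. -/
noncomputable def mu (l : Fin (N + 1)) :
    Γ(MM Z 1, ⊤) →ₗ[Γ(Z.subscheme, ⊤)] Γ(MM Z 2, ⊤) :=
  Groth.Agent.Fga.TwistGr.appL
    ((Scheme.Modules.pullback Z.subschemeι).map (mul (k := k) l 1 2 (by norm_num))) ⊤

theorem mu_pullTop (l : Fin (N + 1)) (s : Γ(Twist.twistProjSpace N k 1, ⊤)) :
    mu Z l (pullTop Z.subschemeι s) =
      pullTop Z.subschemeι ((mul (k := k) l 1 2 (by norm_num)).app ⊤ s) :=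
  pullback_map_pullSec Z.subschemeι (mul (k := k) l 1 2 (by norm_num)) (U := ⊤) s

theorem mu_comm (l j : Fin (N + 1)) : mu Z l (TT Z j) = mu Z j (TT Z l) := by
  rw [TT, TT, mu_pullTop, mu_pullTop, mul_tsec_comm]

theorem isGen_mu (l : Fin (N + 1)) :
    IsGen (res (MM Z 2) (le_top : UU Z l ≤ ⊤) (mu Z l (TT Z l))) := by
  have h1 : mu Z l (TT Z l) =
      pullTop Z.subschemeι ((mul (k := k) l 1 2 (by norm_num)).app ⊤ (tsec l)) :=
    mu_pullTop Z l (tsec l)
  have h2 : res (MM Z 2) (le_top : UU Z l ≤ ⊤)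
      (pullTop Z.subschemeι ((mul (k := k) l 1 2 (by norm_num)).app ⊤ (tsec l))) =
        pullSec Z.subschemeι (res (Twist.twistProjSpace N k 2) (le_top : chart N k l ≤ ⊤)
          ((mul (k := k) l 1 2 (by norm_num)).app ⊤ (tsec l))) :=
    res_pullSec Z.subschemeι (le_top : chart N k l ≤ ⊤) _
  rw [h1, h2, ← app_res]
  exact (isGen_mul l _ le_rfl (isGen_tsec l)).pullSec Z.subschemeι

theorem iSup_range_mu [DiscreteTopology Z.subscheme] : ⨆ i, LinearMap.range (mu Z i) = ⊤ := by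
  classical
  rw [eq_top_iff]
  intro x _
  choose l hl using exists_mem_UU Z
  have hgen : ∀ w, IsGen (res (MM Z 2) (le_top : sing w ≤ ⊤) (mu Z (l w) (TT Z (l w)))) := by
    intro w
    have := (isGen_mu Z (l w)).res (sing_le (hl w))
    rwa [res_res] at this
  choose a ha using fun w => (hgen w).exists_eq (res (MM Z 2) (le_top : sing w ≤ ⊤) x)
  choose α hα using fun i => exists_fun (X := Z.subscheme)
    (fun w => if l w = i then a w else 0)
  have hx : x = ∑ i, mu Z i (α i • TT Z i) := by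
    refine sec_ext (MM Z 2) fun w => ?_
    rw [map_sum, Finset.sum_eq_single (l w)]
    · rw [map_smul, res_smul, hα, if_pos rfl]
      exact ha w
    · intro i _ hi
      rw [map_smul, res_smul, hα, if_neg (Ne.symm hi), zero_smul]
    · intro h
      exact absurd (Finset.mem_univ _) h
  rw [hx]
  exact Submodule.sum_mem _ fun i _ => Submodule.mem_iSup_of_mem i ⟨_, rfl⟩

theorem pullTop_gl_smul (m : ℤ) (c : k) (s : Γ(Twist.twistProjSpace N k m, ⊤)) :
    pullTop Z.subschemeι ((Groth.Agent.CurvesB.HZero.gl k (CohB1.ProjSpace N k) c) • s) =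
      (κ Z c) • (pullTop Z.subschemeι s : Γ(MM Z m, ⊤)) :=
  pullSec_smul Z.subschemeι (U := ⊤) _ s

theorem surjective_two [DiscreteTopology Z.subscheme] [Finite Z.subscheme] (v : Γ(MM Z 1, ⊤))
    (hv : ∀ t : Γ(MM Z 1, ⊤), ∃ (s : Γ(Twist.twistProjSpace N k 1, ⊤)) (c : k),
      t = pullTop Z.subschemeι s + κ Z c • v) (t : Γ(MM Z 2, ⊤)) :
    ∃ s : Γ(Twist.twistProjSpace N k 2, ⊤), pullTop Z.subschemeι s = t := by
  obtain ⟨e, he⟩ := exists_gen_one Z
  choose τ hτ using fun l => he.exists_eq (TT Z l)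
  letI : Algebra k Γ(Z.subscheme, ⊤) := (κ Z).toAlgebra
  letI : Module k Γ(MM Z 1, ⊤) := Module.compHom _ (κ Z)
  letI : Module k Γ(MM Z 2, ⊤) := Module.compHom _ (κ Z)
  have i1 : IsScalarTower k Γ(Z.subscheme, ⊤) Γ(MM Z 1, ⊤) :=
    ⟨fun c a x => mul_smul (κ Z c) a x⟩
  have i2 : IsScalarTower k Γ(Z.subscheme, ⊤) Γ(MM Z 2, ⊤) :=
    ⟨fun c a x => mul_smul (κ Z c) a x⟩
  let W : Submodule k Γ(MM Z 2, ⊤) :=
    { carrier := Set.range (fun s : Γ(Twist.twistProjSpace N k 2, ⊤) =>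
        (pullTop Z.subschemeι s : Γ(MM Z 2, ⊤)))
      zero_mem' := ⟨0, map_zero (((Scheme.Modules.pullbackPushforwardAdjunction
        Z.subschemeι).unit.app (Twist.twistProjSpace N k 2)).app ⊤).hom⟩
      add_mem' := by
        rintro _ _ ⟨s, rfl⟩ ⟨s', rfl⟩
        exact ⟨s + s', pullSec_add Z.subschemeι s s'⟩
      smul_mem' := by
        rintro c _ ⟨s, rfl⟩
        exact ⟨_, pullTop_gl_smul Z 2 c s⟩ }
  have hW : W = ⊤ := K819.TwistCore.main_alg (mu Z) e he.bijective.2 τ (span_eq_top he hτ)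
    (exists_loc he hτ) (fun i j => by rw [← hτ, ← hτ, mu_comm])
    (Set.range (fun s : Γ(Twist.twistProjSpace N k 1, ⊤) =>
      (pullTop Z.subschemeι s : Γ(MM Z 1, ⊤)))) W
    (by
      rintro i _ ⟨s, rfl⟩
      exact ⟨_, (mu_pullTop Z i s).symm⟩)
    (fun j => ⟨tsec j, hτ j⟩) v
    (fun t => by
      obtain ⟨s, c, h⟩ := hv t
      exact ⟨_, ⟨s, rfl⟩, c, h⟩)
    (iSup_range_mu Z)
  have ht : t ∈ W := by rw [hW]; trivial
  exact ht

end K819.TwistSurj
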